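import Groth.Agent.Depth.Local
import Groth.Agent.EGA4Lib.SkFlat
import Groth.Agent.QGorLib.FibDepth
import Mathlib.LinearAlgebra.Dual.Lemmas
import Mathlib.Algebra.Module.FinitePresentation
import Mathlib.RingTheory.Spectrum.Prime.FreeLocus

/-!
Extension across a closed subset, in elementary form: modules without `I`-torsion on which every
linear map from `I` is a multiplication, and maps with quasi-inverses along `I`.
-/

set_option autoImplicit false
set_option linter.style.haveILetI false
set_option maxHeartbeats 800000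

universe u

open TensorProduct
open scoped Pointwise

namespace Groth.Agent.ExtOff6

section

variable {B : Type u} [CommRing B] (I : Ideal B)

/-- No nonzero element is killed by `I`. -/
def NoTors (M : Type u) [AddCommGroup M] [Module B M] : Prop :=
  ∀ x : M, (∀ t ∈ I, t • x = 0) → x = 0

/-- Every linear map from `I` is a multiplication. -/
def Ext1 (M : Type u) [AddCommGroup M] [Module B M] : Prop :=
  ∀ ψ : I →ₗ[B] M, ∃ c : M, ∀ t : I, ψ t = (t : B) • c

variable {I} {M N : Type u} [AddCommGroup M] [Module B M] [AddCommGroup N] [Module B N]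

theorem noTors_of_equiv (e : M ≃ₗ[B] N) (h : NoTors I M) : NoTors I N := fun x hx => by
  have := h (e.symm x) fun t ht => by rw [← map_smul, hx t ht, map_zero]
  simpa using congrArg e this

theorem ext1_of_equiv (e : M ≃ₗ[B] N) (h : Ext1 I M) : Ext1 I N := fun ψ => by
  obtain ⟨c, hc⟩ := h (e.symm.toLinearMap ∘ₗ ψ)
  exact ⟨e c, fun t => by
    rw [← map_smul, ← hc t]
    exact (e.apply_symm_apply _).symm⟩

theorem noTors_hom (h : NoTors I M) : NoTors I (N →ₗ[B] M) := fun φ hφ =>
  LinearMap.ext fun x => h (φ x) fun t ht => LinearMap.congr_fun (hφ t ht) x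

theorem ext1_hom (h : NoTors I M) (h' : Ext1 I M) : Ext1 I (N →ₗ[B] M) := fun ψ => by
  choose c hc using fun x : N => h' ((LinearMap.applyₗ x).comp ψ)
  have huniq : ∀ x y : M, (∀ t : I, (t : B) • x = (t : B) • y) → x = y := fun x y he =>
    sub_eq_zero.mp (h _ fun t ht => by rw [smul_sub, he ⟨t, ht⟩, sub_self])
  refine ⟨{ toFun := c
            map_add' := fun x y => huniq _ _ fun t => by
              rw [smul_add, ← hc, ← hc, ← hc]; exact (ψ t).map_add x y
            map_smul' := fun a x => huniq _ _ fun t => by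
              rw [RingHom.id_apply, smul_comm, ← hc, ← hc]; exact (ψ t).map_smul a x }, fun t => ?_⟩
  exact LinearMap.ext fun x => hc x t

/-- A map with quasi-inverses along `I` is bijective when source and target have no sections at `V(I)`. -/
theorem bijective (f : M →ₗ[B] N) (hg : ∀ t ∈ I, ∃ g : N →ₗ[B] M, (∀ x, g (f x) = t • x) ∧ ∀ y, f (g y) = t • y)
    (hM : NoTors I M) (hM' : Ext1 I M) (hN : NoTors I N) : Function.Bijective f := by
  choose g hgf hfg using hg
  have hinj : Function.Injective f := by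
    rw [injective_iff_map_eq_zero]
    intro x hx
    exact hM x fun t ht => by rw [← hgf t ht, hx, map_zero]
  refine ⟨hinj, fun y => ?_⟩
  let ψ : I →ₗ[B] M :=
    { toFun := fun t => g t t.2 y
      map_add' := fun s t => hinj (by rw [map_add, hfg, hfg, hfg, ← add_smul]; rfl)
      map_smul' := fun a t => hinj (by
        rw [RingHom.id_apply, map_smul, hfg, hfg, smul_smul]; rfl) }
  obtain ⟨c, hc⟩ := hM' ψ
  refine ⟨c, sub_eq_zero.mp (hN _ fun t ht => ?_)⟩
  rw [smul_sub, ← map_smul, ← show g t ht y = t • c from hc ⟨t, ht⟩, hfg, sub_self]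

theorem of_idealDepth [IsNoetherianRing B] [Module.Finite B M] (h : 2 ≤ LocCoh.idealDepth I M) :
    NoTors I M ∧ Ext1 I M := by
  by_cases hIM : I • (⊤ : Submodule B M) = ⊤
  · obtain ⟨a, ha, b, hb, hab⟩ := Depth.exists_add_eq_one_of_smul_top_eq_top hIM
    rw [Module.mem_annihilator] at ha
    have h1 : ∀ x : M, b • x = x := fun x => by
      have : (a + b) • x = x := by rw [hab, one_smul]
      rwa [add_smul, ha, zero_add] at this
    refine ⟨fun x hx => by rw [← h1 x]; exact hx b hb, fun ψ => ⟨ψ ⟨b, hb⟩, fun t => ?_⟩⟩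
    rw [← ψ.map_smul, ← h1 (ψ t), ← ψ.map_smul]
    exact congrArg ψ (Subtype.ext (mul_comm b (t : B)))
  obtain ⟨rs, hlen, hw, hmem⟩ : ∃ rs : List B, rs.length = 2 ∧
      RingTheory.Sequence.IsWeaklyRegular M rs ∧ ∀ r ∈ rs, r ∈ I := by
    obtain ⟨rs, h1, h2, h3⟩ := Depth.exists_isWeaklyRegular_of_le_idealDepth hIM (n := 2) h
    exact ⟨rs, h3, h1, h2⟩
  match rs, hlen with
  | [r, s], _ =>
    obtain ⟨hr, hs⟩ := (RingTheory.Sequence.isWeaklyRegular_cons_iff M r [s]).mp hw
    have hs' := ((RingTheory.Sequence.isWeaklyRegular_cons_iff _ s []).mp hs).1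
    have hrI : r ∈ I := hmem r (by simp)
    have hsI : s ∈ I := hmem s (by simp)
    refine ⟨fun x hx => hr.right_eq_zero_of_smul (hx r hrI), fun ψ => ?_⟩
    have hz : Submodule.Quotient.mk (p := r • (⊤ : Submodule B M)) (ψ ⟨r, hrI⟩) = 0 := by
      refine hs'.right_eq_zero_of_smul ?_
      rw [← Submodule.Quotient.mk_smul, Submodule.Quotient.mk_eq_zero, ← ψ.map_smul,
        show s • (⟨r, hrI⟩ : I) = r • (⟨s, hsI⟩ : I) from Subtype.ext (mul_comm s r), ψ.map_smul]
      exact Submodule.smul_mem_pointwise_smul _ r ⊤ trivial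
    rw [Submodule.Quotient.mk_eq_zero, Submodule.mem_smul_pointwise_iff_exists] at hz
    obtain ⟨c, -, hc⟩ := hz
    refine ⟨c, fun t => hr ?_⟩
    show r • ψ t = r • ((t : B) • c)
    rw [smul_comm, hc, ← ψ.map_smul, ← ψ.map_smul]
    exact congrArg ψ (Subtype.ext (mul_comm r (t : B)))

end

section baseChange

variable {A B : Type u} [CommRing A] [CommRing B] [Algebra A B]
  (P : Type u) [AddCommGroup P] [Module B P] [Module A P] [IsScalarTower A B P]

theorem exists_fg_range (N : Type u) [AddCommGroup N] [Module A N] (x : P ⊗[A] N) :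
    ∃ N₀ : Submodule A N, N₀.FG ∧ x ∈ LinearMap.range (AlgebraTensorModule.lTensor B P N₀.subtype) := by
  induction x using TensorProduct.induction_on with
  | zero => exact ⟨⊥, Submodule.fg_bot, zero_mem _⟩
  | tmul p n =>
    exact ⟨Submodule.span A {n}, Submodule.fg_span_singleton n,
      ⟨p ⊗ₜ ⟨n, Submodule.mem_span_singleton_self n⟩, rfl⟩⟩
  | add x y hx hy =>
    obtain ⟨N₁, h1, ⟨a, ha⟩⟩ := hx
    obtain ⟨N₂, h2, ⟨b, hb⟩⟩ := hy
    refine ⟨N₁ ⊔ N₂, h1.sup h2, ?_⟩
    refine add_mem ⟨AlgebraTensorModule.lTensor B P (Submodule.inclusion le_sup_left) a, ?_⟩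
      ⟨AlgebraTensorModule.lTensor B P (Submodule.inclusion le_sup_right) b, ?_⟩
    · rw [← ha, ← LinearMap.comp_apply, ← AlgebraTensorModule.lTensor_comp]; rfl
    · rw [← hb, ← LinearMap.comp_apply, ← AlgebraTensorModule.lTensor_comp]; rfl

/-- Depth at least two on the fibres gives extension for all tensor products over the base. -/
theorem tensor [IsNoetherianRing A] [IsNoetherianRing B] [Module.Finite B P] [Module.Flat A P] (J : Ideal B) (n : ℕ)
    (h : ∀ q : PrimeSpectrum B, J ≤ q.asIdeal →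
      2 ≤ LocCoh.idealDepth (q.asIdeal.map (algebraMap B (EGA4.FibLocRing A B q.asIdeal))) (EGA4.FibLocMod A B q.asIdeal P))
    (N : Type u) [AddCommGroup N] [Module A N] : NoTors (J ^ n) (P ⊗[A] N) ∧ Ext1 (J ^ n) (P ⊗[A] N) := by
  classical
  have hfin : ∀ N₀ : Submodule A N, N₀.FG → NoTors (J ^ n) (P ⊗[A] N₀) ∧ Ext1 (J ^ n) (P ⊗[A] N₀) := by
    intro N₀ hN₀
    haveI : Module.Finite A N₀ := Module.Finite.iff_fg.mpr hN₀
    haveI : Module.Finite B (P ⊗[A] N₀) := LocFlat.finite_tensor P N₀
    refine of_idealDepth ?_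
    rw [Depth.idealDepth_eq_iInf_depth]
    refine le_iInf₂ fun q hq => ?_
    have hJq : J ≤ q.asIdeal := fun x hx =>
      q.2.mem_of_pow_mem n (hq (Ideal.pow_mem_pow hx n))
    have h' := h q hJq
    rw [QGorLib.FibDepth.idealDepth_fib] at h'
    rw [(EGA4Lib.depth_supportDim_stalk A q.asIdeal N₀ P).1]
    exact h'.trans le_add_self
  have hinj : ∀ N₀ : Submodule A N, Function.Injective (AlgebraTensorModule.lTensor B P N₀.subtype) := fun N₀ =>
    Module.Flat.lTensor_preserves_injective_linearMap N₀.subtype N₀.injective_subtype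
  refine ⟨fun x hx => ?_, fun ψ => ?_⟩
  · obtain ⟨N₀, hN₀, y, rfl⟩ := exists_fg_range (B := B) P N x
    rw [(hfin N₀ hN₀).1 y fun t ht => hinj N₀ (by rw [map_smul, hx t ht, map_zero]), map_zero]
  · obtain ⟨s, hs⟩ := (IsNoetherian.noetherian (⊤ : Submodule B ↥(J ^ n)) : (⊤ : Submodule B ↥(J ^ n)).FG)
    choose N₀ hN₀ hmem using fun t : ↥(J ^ n) => exists_fg_range (B := B) P N (ψ t)
    let N₁ : Submodule A N := s.sup N₀
    have hN₁ : N₁.FG := Submodule.fg_finset_sup _ _ fun t _ => hN₀ t
    have hle : LinearMap.range ψ ≤ LinearMap.range (AlgebraTensorModule.lTensor B P N₁.subtype) := by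
      rw [LinearMap.range_eq_map, ← hs, Submodule.map_span, Submodule.span_le]
      rintro _ ⟨t, ht, rfl⟩
      obtain ⟨y, hy⟩ := hmem t
      refine ⟨AlgebraTensorModule.lTensor B P (Submodule.inclusion (Finset.le_sup ht)) y, ?_⟩
      rw [← hy, ← LinearMap.comp_apply, ← AlgebraTensorModule.lTensor_comp]; rfl
    let e := LinearEquiv.ofInjective _ (hinj N₁)
    obtain ⟨c, hc⟩ := (hfin N₁ hN₁).2 (e.symm.toLinearMap ∘ₗ
      ψ.codRestrict (LinearMap.range (AlgebraTensorModule.lTensor B P N₁.subtype)) fun t => hle ⟨t, rfl⟩)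
    refine ⟨AlgebraTensorModule.lTensor B P N₁.subtype c, fun t => ?_⟩
    rw [← map_smul, ← hc t]
    exact (congrArg Subtype.val (e.apply_symm_apply ⟨ψ t, hle ⟨t, rfl⟩⟩)).symm

end baseChange

section factor

variable {B : Type u} [CommRing B]

/-- Multiplication by `t` on `F` factors through a finite free module. -/
def Factors (F : Type u) [AddCommGroup F] [Module B F] (t : B) : Prop :=
  ∃ (k : ℕ) (a : F →ₗ[B] (Fin k → B)) (b : (Fin k → B) →ₗ[B] F), ∀ x, b (a x) = t • x

variable (F : Type u) [AddCommGroup F] [Module B F]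

/-- The ideal of elements whose homothety factors through a free module. -/
def factorIdeal : Ideal B where
  carrier := {t | Factors F t}
  zero_mem' := ⟨0, 0, 0, fun x => by simp⟩
  add_mem' := by
    rintro s t ⟨k, a, b, h⟩ ⟨l, a', b', h'⟩
    let e : ((Fin k → B) × (Fin l → B)) ≃ₗ[B] (Fin (k + l) → B) :=
      (LinearEquiv.sumArrowLequivProdArrow (Fin k) (Fin l) B B).symm.trans
        (LinearEquiv.funCongrLeft B B finSumFinEquiv.symm)
    refine ⟨k + l, e.toLinearMap ∘ₗ a.prod a', (b.coprod b') ∘ₗ e.symm.toLinearMap, fun x => ?_⟩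
    simp [h, h', add_smul]
  smul_mem' := by
    rintro c t ⟨k, a, b, h⟩
    exact ⟨k, c • a, b, fun x => by simp [h, mul_smul]⟩

variable {F}

theorem exists_pow_le [IsNoetherianRing B] [Module.Finite B F] (J : Ideal B)
    (hFU : ∀ q : PrimeSpectrum B, ¬ J ≤ q.asIdeal →
      Module.Free (Localization.AtPrime q.asIdeal) (LocalizedModule q.asIdeal.primeCompl F)) :
    ∃ n : ℕ, J ^ n ≤ factorIdeal F := by
  haveI : Module.FinitePresentation B F := Module.finitePresentation_of_finite B F
  refine Ideal.exists_pow_le_of_le_radical_of_fg ?_ (IsNoetherian.noetherian J)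
  intro x hx
  rw [Ideal.radical_eq_sInf, Submodule.mem_sInf]
  rintro p ⟨hle, hp⟩
  by_contra hxp
  haveI := hp
  haveI := hFU ⟨p, hp⟩ fun hJ => hxp (hJ hx)
  set S := Ideal.primeCompl p
  let k := Module.finrank (Localization S) (LocalizedModule S F)
  haveI : Module.Free (Localization S) (LocalizedModule S (Fin k → B)) := Module.free_of_flat_of_isLocalRing
  let f := LocalizedModule.mkLinearMap S (Fin k → B)
  let g := LocalizedModule.mkLinearMap S F
  haveI : Nontrivial B := (Ideal.Quotient.mk p).domain_nontrivial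
  have hd : Module.finrank (Localization S) (LocalizedModule S (Fin k → B)) = k := by
    have : Module.rankAtStalk (R := B) (Fin k → B) ⟨p, hp⟩ = k := by
      rw [Module.rankAtStalk_eq_finrank_of_free]; simp
    exact this
  let e := (LinearEquiv.ofFinrankEq _ _ hd).restrictScalars B
  obtain ⟨l, s, hl⟩ :=
    Module.FinitePresentation.exists_lift_of_isLocalizedModule S g (e.toLinearMap ∘ₗ f)
  obtain ⟨l', s', hl'⟩ :=
    Module.FinitePresentation.exists_lift_of_isLocalizedModule S f (e.symm.toLinearMap ∘ₗ g)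
  have H₁ : g ∘ₗ (l ∘ₗ l') = g ∘ₗ ((s * s') • LinearMap.id) := by
    refine LinearMap.ext fun y => ?_
    have a1 := DFunLike.congr_fun hl (l' y)
    have a2 := DFunLike.congr_fun hl' y
    simp only [LinearMap.coe_comp, LinearEquiv.coe_coe, Function.comp_apply, LinearMap.smul_apply,
      Submonoid.smul_def, LinearMap.id_apply, Submonoid.coe_mul] at a1 a2 ⊢
    rw [a1, a2, map_smul, e.apply_symm_apply, map_smul, smul_smul]
  obtain ⟨s₁, hs₁⟩ := Module.Finite.exists_smul_of_comp_eq_of_isLocalizedModule S g _ _ H₁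
  refine (s₁ * (s * s') : S).2 (hle ⟨k, l', (s₁ : B) • l, fun y => ?_⟩)
  have := DFunLike.congr_fun hs₁ y
  simp only [LinearMap.smul_apply, Submonoid.smul_def, LinearMap.coe_comp, Function.comp_apply,
    LinearMap.id_apply, Submonoid.coe_mul, smul_smul] at this ⊢
  exact this

/-- Evaluation into the double dual has quasi-inverses. -/
theorem eval_quasiInverse {t : B} (h : Factors F t) :
    ∃ g : Module.Dual B (Module.Dual B F) →ₗ[B] F,
      (∀ x, g (Module.Dual.eval B F x) = t • x) ∧ ∀ y, Module.Dual.eval B F (g y) = t • y := by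
  obtain ⟨k, a, b, hab⟩ := h
  let e := Module.evalEquiv B (Fin k → B)
  refine ⟨b ∘ₗ e.symm.toLinearMap ∘ₗ a.dualMap.dualMap, fun x => ?_, fun y => ?_⟩
  · have h1 : a.dualMap.dualMap (Module.Dual.eval B F x) = e (a x) := LinearMap.ext fun φ => rfl
    simp [h1, hab]
  · have h1 : ∀ z, Module.Dual.eval B F (b z) = b.dualMap.dualMap (e z) := fun z => LinearMap.ext fun φ => rfl
    show Module.Dual.eval B F (b (e.symm (a.dualMap.dualMap y))) = t • y
    rw [h1, e.apply_symm_apply]
    refine LinearMap.ext fun φ => ?_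
    show y ((φ ∘ₗ b) ∘ₗ a) = t • y φ
    rw [show (φ ∘ₗ b) ∘ₗ a = t • φ from LinearMap.ext fun x => by simp [hab], map_smul]

theorem factors_baseChange (B' : Type u) [CommRing B'] [Algebra B B'] {t : B} (h : Factors F t) :
    Factors (B' ⊗[B] F) (algebraMap B B' t) := by
  obtain ⟨k, a, b, hab⟩ := h
  let e := TensorProduct.piScalarRight B B' B' (Fin k)
  refine ⟨k, e.toLinearMap ∘ₗ a.baseChange B', b.baseChange B' ∘ₗ e.symm.toLinearMap, fun x => ?_⟩
  simp only [LinearMap.coe_comp, LinearEquiv.coe_coe, Function.comp_apply, LinearEquiv.symm_apply_apply]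
  rw [← LinearMap.comp_apply, ← LinearMap.baseChange_comp,
    show b ∘ₗ a = t • LinearMap.id from LinearMap.ext hab, LinearMap.baseChange_smul, LinearMap.baseChange_id,
    LinearMap.smul_apply, LinearMap.id_apply, algebraMap_smul]

end factor

section transfer

variable {B B' : Type u} [CommRing B] [CommRing B'] [Algebra B B'] {I : Ideal B}
  {M : Type u} [AddCommGroup M] [Module B M] [Module B' M] [IsScalarTower B B' M]

theorem noTors_map (h : NoTors I M) : NoTors (I.map (algebraMap B B')) M := fun x hx =>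
  h x fun t ht => by rw [← algebraMap_smul B' t x]; exact hx _ (Ideal.mem_map_of_mem _ ht)

theorem ext1_map (h : Ext1 I M) : Ext1 (I.map (algebraMap B B')) M := fun ψ => by
  let ι : I →ₗ[B] M :=
    { toFun := fun t => ψ ⟨algebraMap B B' t, Ideal.mem_map_of_mem _ t.2⟩
      map_add' := fun s t => by rw [← map_add]; exact congrArg ψ (Subtype.ext (map_add _ _ _))
      map_smul' := fun a t => by
        show _ = a • ψ _
        rw [← algebraMap_smul B' a (ψ _), ← ψ.map_smul]
        exact congrArg ψ (Subtype.ext (by simp [Algebra.smul_def])) }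
  obtain ⟨c, hc⟩ := h ι
  refine ⟨c, fun t => ?_⟩
  obtain ⟨t, ht⟩ := t
  induction ht using Submodule.span_induction with
  | mem x hx =>
    obtain ⟨s, hs, rfl⟩ := hx
    show ψ _ = algebraMap B B' s • c
    rw [algebraMap_smul]
    exact hc ⟨s, hs⟩
  | zero => rw [show (⟨0, _⟩ : ↥(I.map (algebraMap B B'))) = 0 from rfl, map_zero]; exact (zero_smul _ _).symm
  | add x y hx hy hx' hy' =>
    have := ψ.map_add ⟨x, hx⟩ ⟨y, hy⟩
    rw [hx', hy'] at this
    exact this.trans (add_smul x y c).symm
  | smul a x hx hx' =>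
    have := ψ.map_smul a ⟨x, hx⟩
    rw [hx'] at this
    exact this.trans (smul_smul a x c)

end transfer

end Groth.Agent.ExtOff6
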