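import Groth.Agent.ExtOff6.Basic
import Mathlib.RingTheory.IsTensorProduct
import Mathlib.RingTheory.TensorProduct.Quotient
import Mathlib.RingTheory.Ideal.AssociatedPrime.Finiteness

/-!
Converse of `of_idealDepth`, localisation, and projective modules.
-/

set_option autoImplicit false
set_option linter.style.haveILetI false
set_option maxHeartbeats 800000

universe u

open TensorProduct
open scoped Pointwise

namespace Groth.Agent.ExtOff6

variable {B : Type u} [CommRing B] {I : Ideal B}

theorem pi {M : Type u} [AddCommGroup M] [Module B M] (h : NoTors I M) (h' : Ext1 I M) (k : ℕ) :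
    NoTors I (Fin k → M) ∧ Ext1 I (Fin k → M) := by
  refine ⟨fun x hx => funext fun i => h (x i) fun t ht => congrFun (hx t ht) i, fun ψ => ?_⟩
  choose c hc using fun i => h' (LinearMap.proj i ∘ₗ ψ)
  exact ⟨c, fun t => funext fun i => hc i t⟩

theorem of_retract {M N : Type u} [AddCommGroup M] [Module B M] [AddCommGroup N] [Module B N]
    (i : M →ₗ[B] N) (r : N →ₗ[B] M) (hri : ∀ x, r (i x) = x) (h : NoTors I N) (h' : Ext1 I N) :
    NoTors I M ∧ Ext1 I M := by
  refine ⟨fun x hx => ?_, fun ψ => ?_⟩
  · rw [← hri x, h (i x) fun t ht => by rw [← map_smul, hx t ht, map_zero], map_zero]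
  · obtain ⟨c, hc⟩ := h' (i ∘ₗ ψ)
    exact ⟨r c, fun t => by rw [← map_smul, ← hc t, LinearMap.comp_apply, hri]⟩

theorem kernel {M N : Type u} [AddCommGroup M] [Module B M] [AddCommGroup N] [Module B N]
    (u : M →ₗ[B] N) (h : NoTors I M) (h' : Ext1 I M) (hN : NoTors I N) :
    NoTors I (LinearMap.ker u) ∧ Ext1 I (LinearMap.ker u) := by
  refine ⟨fun x hx => Subtype.ext (h x fun t ht => congrArg Subtype.val (hx t ht)), fun ψ => ?_⟩
  obtain ⟨c, hc⟩ := h' ((LinearMap.ker u).subtype ∘ₗ ψ)
  refine ⟨⟨c, hN _ fun t ht => ?_⟩, fun t => Subtype.ext (hc t)⟩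
  rw [← map_smul, ← hc ⟨t, ht⟩]
  exact (ψ ⟨t, ht⟩).2

theorem of_projective (h : NoTors I B) (h' : Ext1 I B) (M : Type u) [AddCommGroup M] [Module B M]
    [Module.Finite B M] [Module.Projective B M] : NoTors I M ∧ Ext1 I M := by
  obtain ⟨k, π, hπ⟩ := Module.Finite.exists_fin' B M
  obtain ⟨σ, hσ⟩ := Module.projective_lifting_property π LinearMap.id hπ
  obtain ⟨h1, h2⟩ := pi h h' k
  exact of_retract σ π (fun x => LinearMap.congr_fun hσ x) h1 h2

/-- Extension survives localisation. -/
theorem localized {M M' : Type u} [AddCommGroup M] [Module B M] [AddCommGroup M'] [Module B M']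
    [IsNoetherianRing B] (S : Submonoid B) (f : M →ₗ[B] M') [IsLocalizedModule S f]
    (h : NoTors I M) (h' : Ext1 I M) : NoTors I M' ∧ Ext1 I M' := by
  classical
  obtain ⟨G, hG⟩ := (IsNoetherian.noetherian I : (I : Submodule B B).FG)
  refine ⟨fun x hx => ?_, fun ψ => ?_⟩
  · obtain ⟨⟨m, s⟩, hms⟩ := IsLocalizedModule.surj S f x
    have hmem : ∀ g ∈ G, g ∈ I := fun g hg => hG ▸ Submodule.subset_span hg
    have : ∀ g ∈ G, ∃ e : S, (e : B) • g • m = 0 := fun g hg => by
      have h0 : f (g • m) = 0 := by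
        rw [map_smul, ← hms, Submonoid.smul_def, smul_comm, hx g (hmem g hg), smul_zero]
      obtain ⟨e, he⟩ := (IsLocalizedModule.eq_zero_iff S f).mp h0
      exact ⟨e, he⟩
    choose! e he using this
    have hm : ((∏ g ∈ G, e g : S) : B) • m = 0 := by
      refine h _ fun t ht => ?_
      rw [← hG] at ht
      induction ht using Submodule.span_induction with
      | mem g hg =>
        obtain ⟨d, hd⟩ : (e g : B) ∣ ((∏ g ∈ G, e g : S) : B) := by
          rw [Submonoid.coe_finsetProd]
          exact Finset.dvd_prod_of_mem (fun g => (e g : B)) hg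
        rw [hd, smul_smul, show g * ((e g : B) * d) = d * ((e g : B) * g) by ring, mul_smul,
          mul_smul, he g hg, smul_zero]
      | zero => simp
      | add a b _ _ ha hb => rw [add_smul, ha, hb, add_zero]
      | smul c a _ ha => rw [smul_assoc, ha, smul_zero]
    have h1 : ((∏ g ∈ G, e g : S) * s : S) • x = 0 := by
      rw [mul_smul, show (s : S) • x = f m from hms, Submonoid.smul_def, ← map_smul, hm, map_zero]
    exact IsLocalizedModule.smul_injective f ((∏ g ∈ G, e g) * s) (h1.trans (smul_zero _).symm)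
  · haveI : Module.FinitePresentation B I := Module.finitePresentation_of_finite B I
    obtain ⟨l, s, hl⟩ := Module.FinitePresentation.exists_lift_of_isLocalizedModule S f ψ
    obtain ⟨c, hc⟩ := h' l
    obtain ⟨c', hc'⟩ := ((Module.End.isUnit_iff _).mp (IsLocalizedModule.map_units f s)).2 (f c)
    refine ⟨c', fun t => IsLocalizedModule.smul_injective f s ?_⟩
    have := LinearMap.congr_fun hl t
    rw [LinearMap.comp_apply, hc, map_smul] at this
    show (s : B) • ψ t = (s : B) • (t : B) • c'
    rw [smul_comm, show (s : B) • c' = f c from hc', this]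
    rfl

/-- Extension gives depth at least two. -/
theorem two_le_idealDepth [IsNoetherianRing B] {M : Type u} [AddCommGroup M] [Module B M] [Module.Finite B M]
    (h : NoTors I M) (h' : Ext1 I M) : 2 ≤ LocCoh.idealDepth I M := by
  have key : ∀ (N : Type u) [AddCommGroup N] [Module B N] [Module.Finite B N], NoTors I N →
      1 ≤ LocCoh.idealDepth I N := by
    intro N _ _ _ hN
    refine Depth.one_le_idealDepth_iff.mpr fun q hq hle => ?_
    obtain ⟨hp, z, hz⟩ := isAssociatedPrime_iff.mp hq
    refine hp.ne_top ?_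
    have : z = 0 := hN z fun t ht => by
      have := hle ht
      rwa [hz, Submodule.mem_colon_singleton, Submodule.mem_bot] at this
    rw [hz, this]
    simp
  obtain ⟨r, hrI, hr⟩ := Depth.exists_isSMulRegular_of_one_le_idealDepth (key M h)
  refine (Depth.le_idealDepth_quotSMulTop_iff hrI hr 1).mp ?_
  show (1 : ℕ∞) ≤ _
  refine key _ ?_
  intro x hx
  obtain ⟨x, rfl⟩ := Submodule.mkQ_surjective _ x
  have hx' : ∀ t : I, ∃ c : M, r • c = (t : B) • x := fun t => by
    have := hx t t.2
    rw [← map_smul, Submodule.mkQ_apply, Submodule.Quotient.mk_eq_zero,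
      Submodule.mem_smul_pointwise_iff_exists] at this
    obtain ⟨c, -, hc⟩ := this
    exact ⟨c, hc⟩
  choose c hc using hx'
  let ψ : I →ₗ[B] M :=
    { toFun := c
      map_add' := fun a b => hr (by
        show r • c (a + b) = r • (c a + c b)
        rw [smul_add, hc, hc, hc, ← add_smul]; rfl)
      map_smul' := fun a b => hr (by
        show r • c (a • b) = r • a • c b
        rw [smul_comm r a, hc, hc, smul_smul]; rfl) }
  obtain ⟨c₀, hc₀⟩ := h' ψ
  rw [Submodule.mkQ_apply, Submodule.Quotient.mk_eq_zero, Submodule.mem_smul_pointwise_iff_exists]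
  refine ⟨c₀, trivial, sub_eq_zero.mp (h _ fun t ht => ?_)⟩
  rw [smul_sub, smul_comm, ← hc₀ ⟨t, ht⟩]
  exact sub_eq_zero.mpr (hc ⟨t, ht⟩)

end Groth.Agent.ExtOff6
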